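import Cfsg.Agent.CosetEnum.Y322Order.Lower
import Cfsg.Agent.CosetEnum.Hom
import Cfsg.Agent.CosetEnum.WordTest
import Cfsg.Agent.CosetEnum.Y322A.Bound
import Cfsg.Agent.CosetEnum.Y322B.Bound
import Cfsg.Agent.CosetEnum.Y322C.Bound
import Cfsg.Agent.CosetEnum.Y322D.Bound
import Cfsg.Agent.CosetEnum.Y322E.Bound
import Cfsg.Agent.CosetEnum.Y322F.Bound
import Cfsg.Agent.CosetEnum.Y322G.Bound

set_option autoImplicit false
set_option maxRecDepth 100000
set_option exponentiation.threshold 200000

/-!
In the group of type Y322 with the spider relation two words of the same parity acting alike on the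
3159 cosets of the W(E7) subgroup are equal: the kernel of the action has order at most two and
contains an odd element, the ninth power of a Coxeter element of that subgroup.
-/

namespace CfsgLib.CosetEnum.Y322

/-- The ninth power of the E7 Coxeter element. -/
def zE7 : List ℕ := (List.replicate 9 [0, 1, 4, 6, 2, 5, 3]).flatten

theorem H_eq_letSub : Y322H.enum.H = setup.letSub Y322A.enum.L := by
  rw [← setup.closure_localG]
  refine congrArg Subgroup.closure (Set.image_congr fun s hs => ?_)
  have hs' : s < 7 := hs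
  interval_cases s <;> simp [prodw, Setup.localG, Y322H.enum, Y322H.sW, Y322A.enum]

theorem H_finite_and_card_le : Finite Y322H.enum.H ∧ Nat.card Y322H.enum.H ≤ 2903040 := by
  have h1 := Y322G.bound 1 ⟨setup.finite_letSub_nil, setup.card_letSub_nil⟩
  have h2 := Y322F.bound _ h1
  have h3 := Y322E.bound _ h2
  have h4 := Y322D.bound _ h3
  have h5 := Y322C.bound _ h4
  have h6 := Y322B.bound _ h5
  have h7 := Y322A.bound _ h6
  rw [H_eq_letSub]
  exact ⟨h7.1, h7.2.trans (by norm_num)⟩

theorem zE7_ne_one : prodw setup.g zE7 ≠ 1 := by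
  obtain ⟨χ, hχ⟩ := setup.exists_hom (K := ℤˣ) (fun _ => -1) (fun _ _ => by decide)
    (fun w hw => by
      have h2 : ∀ v ∈ setup.words, v.length % 2 = 0 := by decide +kernel
      simp only [prodw, List.map_const', List.prod_replicate]
      obtain ⟨c, hc⟩ := Nat.dvd_of_mod_eq_zero (h2 w hw)
      rw [hc, pow_mul, neg_one_sq, one_pow])
  intro h
  have h1 := setup.hom_prodw χ hχ zE7 (by decide +kernel)
  rw [h, map_one] at h1
  exact absurd h1.symm (by decide +kernel)

/-- Words of one parity acting alike are equal. -/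
theorem prodw_eq_of_same (v w : List ℕ) (hv : ∀ x ∈ v, x < 8) (hw : ∀ x ∈ w, x < 8)
    (hpar : (v.length + w.length) % 2 = 0)
    (h : allR (sameWord 3159 Y322H.enum.tb v w) 12 0 = true) :
    prodw setup.g v = prodw setup.g w := by
  obtain ⟨φ, e, hφ, -, -⟩ := Y322H.action
  obtain ⟨hfin, hle⟩ := H_finite_and_card_le
  haveI := hfin
  have hidx : Y322H.enum.H.index = 3159 := Y322H.enum.index_H e
  have hG := Subgroup.card_mul_index Y322H.enum.H
  rw [hidx] at hG
  have hGpos : 0 < Nat.card setup.Grp := by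
    rw [← hG]; exact Nat.mul_pos Nat.card_pos (by norm_num)
  haveI : Finite setup.Grp := Nat.finite_of_card_ne_zero hGpos.ne'
  have hr := Y322H.card_range_ge_order φ hφ
  have hker : Nat.card φ.ker ≤ 2 := by
    have h1 := Subgroup.card_mul_index φ.ker
    rw [Subgroup.index_ker] at h1
    have h2 : Nat.card φ.ker * 4585351680 ≤ 2 * 4585351680 := by
      calc Nat.card φ.ker * 4585351680 ≤ Nat.card φ.ker * Nat.card φ.range := Nat.mul_le_mul_left _ hr
        _ = Nat.card Y322H.enum.H * 3159 := by rw [h1, hG]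
        _ ≤ 2903040 * 3159 := Nat.mul_le_mul_right _ hle
        _ = 2 * 4585351680 := by norm_num
    exact Nat.le_of_mul_le_mul_right h2 (by norm_num)
  have hsame : ∀ (a b : List ℕ), (∀ x ∈ a, x < 8) → (∀ x ∈ b, x < 8) →
      allR (sameWord 3159 Y322H.enum.tb a b) 12 0 = true →
      φ (prodw setup.g a) = φ (prodw setup.g b) := by
    intro a b ha hb hab
    apply inv_injective
    ext i
    have hi : i.val < 3159 := i.isLt
    have h1 := allR_spec 12 0 hab i (Nat.zero_le _) (by omega)
    unfold sameWord at h1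
    rw [show Nat.blt i.val 3159 = true by simpa using hi] at h1
    simp only [cond_true] at h1
    rw [hφ a ha, hφ b hb]
    exact Nat.eq_of_beq_eq_true h1
  obtain ⟨χ, hχ⟩ := setup.exists_hom (K := ℤˣ) (fun _ => -1) (fun _ _ => by decide)
    (fun u hu => by
      have h2 : ∀ t ∈ setup.words, t.length % 2 = 0 := by decide +kernel
      simp only [prodw, List.map_const', List.prod_replicate]
      obtain ⟨c, hc⟩ := Nat.dvd_of_mod_eq_zero (h2 u hu)
      rw [hc, pow_mul, neg_one_sq, one_pow])
  have hsign : ∀ u : List ℕ, (∀ x ∈ u, x < 8) → χ (prodw setup.g u) = (-1) ^ u.length := by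
    intro u hu
    rw [setup.hom_prodw χ hχ u hu]
    simp [prodw, List.map_const', List.prod_replicate]
  have hzlt : ∀ x ∈ zE7, x < 8 := by decide +kernel
  have hz : prodw setup.g zE7 ∈ φ.ker := by
    rw [MonoidHom.mem_ker, hsame zE7 [] hzlt (fun x hx => absurd hx List.not_mem_nil) (by decide +kernel),
      prodw_nil, map_one]
  have hd : (prodw setup.g v)⁻¹ * prodw setup.g w ∈ φ.ker := by
    rw [MonoidHom.mem_ker, map_mul, map_inv, hsame v w hv hw h, inv_mul_cancel]
  by_contra hne
  have hd1 : (prodw setup.g v)⁻¹ * prodw setup.g w ≠ 1 := fun h1 => hne (inv_mul_eq_one.mp h1)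
  have hd2 : (prodw setup.g v)⁻¹ * prodw setup.g w ≠ prodw setup.g zE7 := by
    intro h1
    have h2 := congrArg χ h1
    rw [map_mul, map_inv, hsign v hv, hsign w hw, hsign zE7 hzlt] at h2
    have h3 : ((-1 : ℤˣ) ^ v.length)⁻¹ * (-1) ^ w.length = 1 := by
      rw [inv_mul_eq_one]
      have : v.length % 2 = w.length % 2 := by omega
      rw [pow_eq_pow_mod v.length (neg_one_sq (R := ℤˣ)), this, ← pow_eq_pow_mod w.length (neg_one_sq (R := ℤˣ))]
    rw [h3] at h2
    exact absurd h2 (by decide +kernel)
  have h3 : ({1, prodw setup.g zE7, (prodw setup.g v)⁻¹ * prodw setup.g w} : Set setup.Grp) ⊆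
      (φ.ker : Set setup.Grp) := by
    intro y hy
    rcases hy with rfl | rfl | rfl
    exacts [one_mem _, hz, hd]
  have h4 := Set.ncard_le_ncard h3 (Set.toFinite _)
  rw [Set.ncard_eq_three.mpr ⟨_, _, _, zE7_ne_one.symm, hd1.symm, hd2.symm, rfl⟩] at h4
  rw [← Nat.card_coe_set_eq] at h4
  exact absurd (h4.trans hker) (by norm_num)

end CfsgLib.CosetEnum.Y322
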